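import Cfsg.Agent.TAB.F22.FxB_m3
import Cfsg.Agent.DS.Cl.Inv_m3
import Cfsg.Agent.DS.Cl.Vec
import Cfsg.Agent.LieClassical.OrthSimple
import Cfsg.Agent.S0283
import Cfsg.Agent.FastGrp
import Cfsg.Agent.Prune
set_option linter.all false

section
prune_inst 0x7f00000000000000000000000000000000000000000000000000000000000000000000000000000000000000000000000000000000000000000000000000000000000000000000000000000000000000003fffffffffffffffffffffffffffbeffbdffffffff

-- part: SB/Cl/Defs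
section
set_option linter.all false

/-!
# S5765, classical groups, non-parabolic case: interface (helper68)

Frame of `DS/Cl`: `F : FR A`, `T = F.S`, `S ≤ F.Aut` solvable with `MaxInv`, `NPar` (`Ctx F S`).
Linear groups: `A = LR (Fin n) K`; unitary, symplectic, orthogonal groups: `A = h.EB`, `h : HF K V`.
See `notes/SB/cl.md`.
-/

set_option autoImplicit false

namespace Cfsg.Agent.SB.Cl

open Cfsg Cfsg.Agent.DS.Cl Cfsg.Agent.DS.Cl.Fwd Module

section defs

variable {A : Type} [Ring A] [StarRing A]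

/-- the standing hypotheses -/
structure Ctx (F : FR A) (S : Subgroup (RingAut A)) : Prop where
  ss : SS A
  span : F.Span
  simple : IsSimpleGroup F.S
  noncomm : ¬ IsMulCommutative F.S
  big : 360 < Nat.card F.S
  cent : ∀ γ ∈ F.Aut, (∀ s ∈ F.S, γ * s = s * γ) → γ = 1
  le : S ≤ F.Aut
  solv : Group.IsSolvable S
  max : MaxInv F.S S
  npar : ∀ p : ℕ, p.Prime → (p : A) = 0 → NPar p F.S S

/-- the members of `D` are conjugate under the isometry group -/
def Isom (F : FR A) (D : Finset A) : Prop := ∀ e ∈ D, ∀ e' ∈ D, ∃ u ∈ F.Iso, cj A u e = e'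

/-- `Z` is a commutative star-closed subring containing the centre -/
def ComSub (Z : Subring A) : Prop :=
  Subring.center A ≤ Z ∧ (∀ x ∈ Z, star x ∈ Z) ∧ ∀ x ∈ Z, ∀ y ∈ Z, x * y = y * x

/-- `Y ≤ S ⊓ T` is an abelian normal subgroup of `S` of exponent `r` whose lifts span `A` (symplectic type) -/
def ExtD (F : FR A) (S Y : Subgroup (RingAut A)) (r : ℕ) : Prop :=
  Y ≤ S ⊓ F.S ∧ (∀ x ∈ Y, ∀ y ∈ Y, x * y = y * x) ∧ (∀ x ∈ Y, x ^ r = 1) ∧ (∀ s ∈ S, ∀ y ∈ Y, s * y * s⁻¹ ∈ Y) ∧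
  Subring.closure ((Subring.center A : Set A) ∪ {a | ∃ u ∈ F.Iso, cj A u ∈ Y ∧ (u : A) = a}) = ⊤

end defs

section kinds

variable {K V : Type} [Field K] [Finite K] [AddCommGroup V] [Module K V] [Finite V]

/-- unitary -/
def IsU (h : HF K V) : Prop := h.ε = 1 ∧ ∃ c, h.τ c ≠ c

/-- symplectic -/
def IsSp (h : HF K V) (F : FR h.EB) : Prop := (∀ c, h.τ c = c) ∧ (∀ v, h.b v v = 0) ∧ F.L = Lmax h.EB

/-- orthogonal -/
def IsO (h : HF K V) (F : FR h.EB) (Q : QuadraticForm K V) : Prop :=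
  (∀ c, h.τ c = c) ∧ (∀ u v, h.b u v = QuadraticMap.polar Q u v) ∧ F.L = Lmin h.EB ∧ ∀ v, h.b v (h.ap F.l v) = Q v

/-- the rank of an element -/
noncomputable def rk (h : HF K V) (a : h.EB) : ℕ := finrank K (LinearMap.range (h.ap a))

/-- the four-dimensional blocks are of plus type -/
def PlusB (h : HF K V) (Q : QuadraticForm K V) (D : Finset h.EB) : Prop :=
  ∀ e ∈ D, rk h e = 4 → ∃ W : Submodule K V, W ≤ LinearMap.range (h.ap e) ∧ finrank K W = 2 ∧ ∀ w ∈ W, Q w = 0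

end kinds

/-- the rank of an element of the ring of pairs -/
noncomputable def rkL {n : ℕ} {K : Type} [Field K] (a : LR (Fin n) K) : ℕ := Matrix.rank a.1

/-- two blocks of ranks `a`, `b` -/
def Two {A : Type} (r : A → ℕ) (D : Finset A) (a b : ℕ) : Prop :=
  D.card = 2 ∧ ∃ e ∈ D, ∃ e' ∈ D, e ≠ e' ∧ r e = a ∧ r e' = b

/-- three or four blocks of rank `d` -/
def Many {A : Type} (r : A → ℕ) (D : Finset A) (d : ℕ) : Prop := (D.card = 3 ∨ D.card = 4) ∧ ∀ e ∈ D, r e = d

/-! ### The main statements -/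

def MainL : Prop := ∀ (K : Type) [Field K] [Finite K] (n : ℕ) (F : FR (LR (Fin n) K))
  (S : Subgroup (RingAut (LR (Fin n) K))), 3 ≤ n → (n ≤ 4 → 3 ≤ Nat.card K) → Ctx F S → Good F.S S

def MainU : Prop := ∀ (K V : Type) [Field K] [Finite K] [AddCommGroup V] [Module K V] [Finite V] (h : HF K V)
  (F : FR h.EB) (S : Subgroup (RingAut h.EB)), IsU h → 4 ≤ finrank K V → (finrank K V = 4 → Nat.card K ≠ 4) →
  Ctx F S → Good F.S S

def MainSp : Prop := ∀ (K V : Type) [Field K] [Finite K] [AddCommGroup V] [Module K V] [Finite V] (h : HF K V)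
  (F : FR h.EB) (S : Subgroup (RingAut h.EB)), IsSp h F → 4 ≤ finrank K V → (finrank K V = 4 → 4 ≤ Nat.card K) →
  Ctx F S → Good F.S S

def MainO : Prop := ∀ (K V : Type) [Field K] [Finite K] [AddCommGroup V] [Module K V] [Finite V] (h : HF K V)
  (F : FR h.EB) (Q : QuadraticForm K V) (S : Subgroup (RingAut h.EB)), IsO h F Q → 7 ≤ finrank K V →
  Ctx F S → Good F.S S

/-! ### The rows -/

/-- linear groups, all frames: `GL₁(q) ≀ S₃, S₄`; `GL₂(q) ≀ S₃, S₄` (`q ≤ 3`); `GL₁(3) × GL₂(3)`, `GL₂(3) ≀ S₂` -/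
def RowLFr : Prop := ∀ (K : Type) [Field K] [Finite K] (n : ℕ) (F : FR (LR (Fin n) K))
  (S : Subgroup (RingAut (LR (Fin n) K))) (D : Finset (LR (Fin n) K)), 3 ≤ n → (n ≤ 4 → 3 ≤ Nat.card K) → Ctx F S →
  Fr D → Inv S D → Many rkL D 1 ∨ (Many rkL D 2 ∧ Nat.card K ≤ 3) ∨
    (Nat.card K = 3 ∧ (Two rkL D 1 2 ∨ Two rkL D 2 2)) → Good F.S S

/-- linear groups, Singer cycles -/
def RowLSing : Prop := ∀ (K : Type) [Field K] [Finite K] (n : ℕ) (F : FR (LR (Fin n) K))
  (S : Subgroup (RingAut (LR (Fin n) K))) (Z : Subring (LR (Fin n) K)), 3 ≤ n → n.Prime → (n ≤ 4 → 3 ≤ Nat.card K) →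
  Ctx F S → ComSub Z → Inv S Z → (∀ x ∈ Z, x.1 ≠ 0 → IsUnit x.1) → Nat.card Z = Nat.card K ^ (2 * n) → Good F.S S

/-- linear groups, `3² : SL₂(3)` in `L₃(q)` and `S₄ × S₄` in `L₄(3)` -/
def RowLExt : Prop := ∀ (K : Type) [Field K] [Finite K] (n : ℕ) (F : FR (LR (Fin n) K))
  (S Y : Subgroup (RingAut (LR (Fin n) K))), Ctx F S →
  (n = 3 ∧ 4 ≤ Nat.card K ∧ ExtD F S Y 3 ∧ Nat.card Y = 9) ∨ (n = 4 ∧ Nat.card K = 3 ∧ ExtD F S Y 2 ∧ Nat.card Y = 16) →
  Good F.S S

/-- unitary groups, `GU₁(q) ≀ S₄` -/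
def RowU1 : Prop := ∀ (K V : Type) [Field K] [Finite K] [AddCommGroup V] [Module K V] [Finite V] (h : HF K V)
  (F : FR h.EB) (S : Subgroup (RingAut h.EB)) (D : Finset h.EB), IsU h → finrank K V = 4 → Nat.card K ≠ 4 →
  Ctx F S → Fr D → Inv S D → Many (rk h) D 1 → Good F.S S

/-- unitary groups, blocks `GU₂(2)`, `GU₂(3)`, `GU₃(2)` -/
def RowU2 : Prop := ∀ (K V : Type) [Field K] [Finite K] [AddCommGroup V] [Module K V] [Finite V] (h : HF K V)
  (F : FR h.EB) (S : Subgroup (RingAut h.EB)) (D : Finset h.EB), IsU h → Ctx F S → Fr D → Inv S D →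
  (Nat.card K = 4 ∧ (Two (rk h) D 2 3 ∨ Two (rk h) D 3 3 ∨ Many (rk h) D 2 ∨ Many (rk h) D 3)) ∨
    (Nat.card K = 9 ∧ (Two (rk h) D 2 2 ∨ Many (rk h) D 2)) → Good F.S S

/-- unitary groups, Singer cycles -/
def RowUSing : Prop := ∀ (K V : Type) [Field K] [Finite K] [AddCommGroup V] [Module K V] [Finite V] (h : HF K V)
  (F : FR h.EB) (S : Subgroup (RingAut h.EB)) (Z : Subring h.EB), IsU h → 5 ≤ finrank K V → (finrank K V).Prime →
  Ctx F S → ComSub Z → Inv S Z → (∀ x ∈ Z, x ≠ 0 → IsUnit x) → Nat.card Z = Nat.card K ^ finrank K V → Good F.S S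

/-- symplectic groups, `Sp₂(q) ≀ S₃, S₄`, `q ≤ 3` -/
def RowSp : Prop := ∀ (K V : Type) [Field K] [Finite K] [AddCommGroup V] [Module K V] [Finite V] (h : HF K V)
  (F : FR h.EB) (S : Subgroup (RingAut h.EB)) (D : Finset h.EB), IsSp h F → Ctx F S → Fr D → Inv S D →
  Nat.card K ≤ 3 → Many (rk h) D 2 → Good F.S S

/-- orthogonal groups, `O₂^ε(q) ≀ S₄` -/
def RowO2 : Prop := ∀ (K V : Type) [Field K] [Finite K] [AddCommGroup V] [Module K V] [Finite V] (h : HF K V)
  (F : FR h.EB) (Q : QuadraticForm K V) (S : Subgroup (RingAut h.EB)) (D : Finset h.EB), IsO h F Q →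
  finrank K V = 8 → Ctx F S → Fr D → Inv S D → Isom F D → Many (rk h) D 2 → Good F.S S

/-- orthogonal groups, blocks `O₃(3)`, `O₄⁺(2)`, `O₄⁺(3)` -/
def RowO3 : Prop := ∀ (K V : Type) [Field K] [Finite K] [AddCommGroup V] [Module K V] [Finite V] (h : HF K V)
  (F : FR h.EB) (Q : QuadraticForm K V) (S : Subgroup (RingAut h.EB)) (D : Finset h.EB), IsO h F Q →
  Ctx F S → Fr D → Inv S D → PlusB h Q D →
  (Nat.card K = 3 ∧ (Two (rk h) D 3 4 ∨ (Isom F D ∧ Many (rk h) D 3))) ∨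
    (Nat.card K ≤ 3 ∧ (Two (rk h) D 4 4 ∨ Many (rk h) D 4)) → Good F.S S

/-- all rows -/
structure Rows : Prop where
  lfr : RowLFr
  lsing : RowLSing
  lext : RowLExt
  u1 : RowU1
  u2 : RowU2
  usi : RowUSing
  sp : RowSp
  o2 : RowO2
  o3 : RowO3

/-- `Sp₄(2^a)`, `a ≥ 2`, groups `S` containing graph automorphisms -/
def BoxB2 : Prop := ∀ (F : Type) [Field F] [Fintype F] [CharP F 2], 4 ≤ Fintype.card F →
  ∀ S : Subgroup (MulAut (PSp 2 F)), Group.IsSolvable S → MaxInv (H786.FC.InnG _) S → NPar 2 (H786.FC.InnG _) S →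
    ¬ S ≤ (Cfsg.Agent.ClassicalGeometry.SympAutSemi.Psi 2 F).range → Good (H786.FC.InnG _) S

/-- `PΩ₈⁺(q)`, groups `S` of order divisible by three modulo the inner-diagonal and field automorphisms, i.e. `S`
is not conjugate to a group of semilinear similitudes -/
def BoxD4 : Prop := ∀ (p : ℕ) (F : Type) [Field F] [Fintype F] [CharP F p], MainO → RowN p (POmega F (quadFormPlus 4 F))

/-- the bridge -/
def BoxBridge : Prop := MainL → MainU → MainSp → MainO → BoxB2 → BoxD4 → Box (fun K _ => IsAlternating K) → BoxPar →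
  BoxN (fun p K _ => IsPSLChar p K) ∧ BoxN (fun p K _ => IsPSUChar p K) ∧ BoxN (fun p K _ => IsPSpChar p K) ∧
  BoxN (fun p K _ => IsPOmegaOddChar p K) ∧ BoxN (fun p K _ => IsPOmegaPlusChar p K) ∧
  BoxN (fun p K _ => IsPOmegaMinusChar p K)

end Cfsg.Agent.SB.Cl
end

-- part: SB/Cl/Basic
section
set_option linter.all false
open scoped Cfsg.Agent.FastGrp

/-!
# S5765, classical groups: basic consequences of `Ctx` (helper68)
-/

set_option autoImplicit false

namespace Cfsg.Agent.SB.Cl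

open Subgroup Cfsg Cfsg.Agent.DS.Cl Cfsg.Agent.DS.Cl.Fwd Module
open scoped commutatorElement

variable {A : Type} [Ring A] [StarRing A]

instance finiteRingAut [Finite A] : Finite (RingAut A) :=
  Finite.of_injective (fun γ : RingAut A => (γ : A → A)) DFunLike.coe_injective

/-- the stabiliser in `F.Aut` of a set -/
def stab [Finite A] (F : FR A) (X : Set A) : Subgroup (RingAut A) where
  carrier := {γ | γ ∈ F.Aut ∧ ∀ x ∈ X, γ x ∈ X}
  one_mem' := ⟨one_mem _, fun _ hx => hx⟩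
  mul_mem' := fun ha hb => ⟨mul_mem ha.1 hb.1, fun x hx => ha.2 _ (hb.2 x hx)⟩
  inv_mem' := by
    intro γ hγ
    refine ⟨inv_mem hγ.1, fun x hx => ?_⟩
    have h1 : Function.Surjective (fun y : X => (⟨γ y, hγ.2 y y.2⟩ : X)) :=
      Finite.surjective_of_injective fun y z h => Subtype.ext (γ.injective (congrArg Subtype.val h))
    obtain ⟨y, hy⟩ := h1 ⟨x, hx⟩
    have h2 : γ y = x := congrArg Subtype.val hy
    rw [← h2, ra_inv_apply]
    exact y.2

theorem mem_stab [Finite A] {F : FR A} {X : Set A} {γ : RingAut A} :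
    γ ∈ stab F X ↔ γ ∈ F.Aut ∧ ∀ x ∈ X, γ x ∈ X := Iff.rfl

theorem inv_stab [Finite A] (F : FR A) (X : Set A) : Inv (stab F X) X := fun _ h => h.2

/-- a conjugate of `s ∈ PI` under `PI` lies in the coset `T s` -/
theorem conj_mul_inv_mem (F : FR A) {g s : RingAut A} (hg : g ∈ F.PI) (hs : s ∈ F.PI) : g * s * g⁻¹ * s⁻¹ ∈ F.S := by
  rw [F.S_eq]
  exact commutator_mem_commutator hg hs

/-- the same for isometries -/
theorem cj_TS (F : FR A) {S : Subgroup (RingAut A)} {g u : Aˣ} (hg : g ∈ F.Iso) (hu : u ∈ F.Iso) (hS : cj A u ∈ S) :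
    ∃ s ∈ S, cj A (g * u * g⁻¹) * s⁻¹ ∈ F.S := by
  refine ⟨_, hS, ?_⟩
  rw [map_mul, map_mul, map_inv]
  exact conj_mul_inv_mem F (mem_map_of_mem _ hg) (mem_map_of_mem _ hu)

namespace Ctx

variable [Finite A] {F : FR A} {S : Subgroup (RingAut A)} (h : Ctx F S)
include h

omit [Finite A] in
theorem as : AS (F.S.subgroupOf F.Aut) where
  normal := ⟨fun s hs γ => mem_subgroupOf.2 (FR.conj_mem_S γ.2 (mem_subgroupOf.1 hs))⟩
  simple := by
    have := h.simple
    exact (subgroupOfEquivOfLe F.S_le_Aut).isSimpleGroup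
  nonab := fun hc => h.noncomm ⟨⟨fun a b => (subgroupOfEquivOfLe F.S_le_Aut).symm.injective (by
    rw [map_mul, map_mul]; exact hc.is_comm.comm _ _)⟩⟩
  cent := by
    rw [eq_bot_iff]
    intro γ hγ
    rw [mem_bot]
    refine Subtype.ext (h.cent γ γ.2 fun s hs => ?_)
    exact (congrArg Subtype.val (mem_centralizer_iff.1 hγ ⟨s, F.S_le_Aut hs⟩ (mem_subgroupOf.2 hs))).symm

omit [Finite A] h in
theorem map_T : (F.S.subgroupOf F.Aut).map F.Aut.subtype = F.S := map_subgroupOf_eq_of_le F.S_le_Aut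

omit [Finite A] in
theorem map_S : (S.subgroupOf F.Aut).map F.Aut.subtype = S := map_subgroupOf_eq_of_le h.le

omit [Finite A] in
theorem card_T : 360 < Nat.card (F.S.subgroupOf F.Aut) := by
  rw [Nat.card_congr (subgroupOfEquivOfLe F.S_le_Aut).toEquiv]
  exact h.big

omit [Finite A] in
theorem solv' : Group.IsSolvable (S.subgroupOf F.Aut) := by
  have := h.solv
  exact Group.isSolvable_of_isSolvable_injective (f := (subgroupOfEquivOfLe h.le).toMonoidHom)
    (subgroupOfEquivOfLe h.le).injective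

omit [Finite A] in
theorem max' : MaxInv (F.S.subgroupOf F.Aut) (S.subgroupOf F.Aut) := by
  apply MaxInv.of_map F.Aut.subtype F.Aut.subtype_injective
  rw [map_T, h.map_S]
  exact h.max

omit [Finite A] in
theorem perfect : F.S ≤ ⁅F.S, F.S⁆ := perfect_of_simple h.simple h.noncomm

omit [Finite A] in
theorem not_solvable : ¬ Group.IsSolvable F.S := Red.not_solvable h.simple h.noncomm

omit [Finite A] in
theorem not_le : ¬ F.S ≤ S := fun hle => h.not_solvable (by
  have := h.solv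
  exact Group.isSolvable_of_isSolvable_injective (f := inclusion hle) (inclusion_injective hle))

omit [Finite A] in
theorem le_SAut : S ≤ SAut A := h.le.trans F.Aut_le_SAut

omit [Finite A] in
theorem conj_inf {γ s : RingAut A} (hγ : γ ∈ S) (hs : s ∈ S ⊓ F.S) : γ * s * γ⁻¹ ∈ S ⊓ F.S :=
  mem_inf.2 ⟨mul_mem (mul_mem hγ (mem_inf.1 hs).1) (inv_mem hγ), FR.conj_mem_S (h.le hγ) (mem_inf.1 hs).2⟩

omit [Finite A] in
/-- **Overgroups**: `Y ∩ T ≤ S` -/
theorem inf_le {Y : Subgroup (RingAut A)} (hSY : S ≤ Y) (hY : ¬ F.S ≤ Y) : Y ⊓ F.S ≤ S := by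
  rcases h.max (Y ⊓ F.S) (inf_le_inf_right _ hSY) inf_le_right (fun s hs y hy => mem_inf.2
    ⟨mul_mem (mul_mem (hSY hs) (mem_inf.1 hy).1) (inv_mem (hSY hs)),
      FR.conj_mem_S (h.le hs) (mem_inf.1 hy).2⟩) with h1 | h1
  · exact absurd (inf_eq_right.1 h1) hY
  · exact h1

omit [Finite A] in
theorem inf_eq {Y : Subgroup (RingAut A)} (hSY : S ≤ Y) (hY : ¬ F.S ≤ Y) : Y ⊓ F.S = S ⊓ F.S :=
  le_antisymm (le_inf (h.inf_le hSY hY) inf_le_right) (inf_le_inf_right _ hSY)

/-- a subgroup of `F.Aut` whose intersection with `T` lies in `S` is solvable -/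
theorem solv_of_inf_le {Y : Subgroup (RingAut A)} (hY : Y ≤ F.Aut) (h1 : Y ⊓ F.S ≤ S) : Group.IsSolvable Y := by
  obtain ⟨k, hk⟩ := h.solv
  have h2 : dS Y 3 ≤ S := (le_inf (dS_le Y 3) ((dS_mono hY 3).trans (FR.dS_three_le h.ss))).trans h1
  have h3 : dS S k = ⊥ := by rw [← DS.Cl.map_derivedSeries_eq, hk, Subgroup.map_bot]
  have h4 : dS Y (3 + k) = ⊥ := by
    rw [← dS_add, eq_bot_iff, ← h3]
    exact dS_mono h2 k
  refine ⟨⟨3 + k, ?_⟩⟩
  rwa [← DS.Cl.map_derivedSeries_eq, map_eq_bot_iff_of_injective _ Y.subtype_injective] at h4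

/-- **every overgroup of `S` in `F.Aut` not containing `T` satisfies `Ctx`** -/
theorem ofLe {Y : Subgroup (RingAut A)} (hSY : S ≤ Y) (hY : Y ≤ F.Aut) (hT : ¬ F.S ≤ Y) : Ctx F Y where
  ss := h.ss
  span := h.span
  simple := h.simple
  noncomm := h.noncomm
  big := h.big
  cent := h.cent
  le := hY
  solv := h.solv_of_inf_le hY (h.inf_le hSY hT)
  max := h.max.of_le hSY
  npar := fun p hp hp0 X h1 h2 h3 => h.npar p hp hp0 X (by rwa [← h.inf_eq hSY hT]) h2 fun s hs => h3 s (hSY hs)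

theorem seven_le : 7 ≤ S.relIndex F.S := seven_le_relIndex h.simple h.noncomm h.big h.solv

theorem good_of_four (h4 : Four F.S S) : Good F.S S := Or.inr (seven_of_four h4 h.seven_le)

theorem le_stab {X : Set A} (hX : Inv S X) : S ≤ stab F X := fun γ hγ => ⟨h.le hγ, hX γ hγ⟩

/-- the full stabiliser of an invariant set -/
theorem stab {X : Set A} (hX : Inv S X) (hT : ¬ Inv F.S X) : Ctx F (stab F X) :=
  h.ofLe (h.le_stab hX) (fun _ hγ => hγ.1) fun hle => hT fun γ hγ => (hle hγ).2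

/-- elements of `T` preserving an `S`-invariant set lie in `S` -/
theorem mem_of_inv {X : Set A} (hX : Inv S X) (hT : ¬ Inv F.S X) {t : RingAut A} (ht : t ∈ F.S)
    (htX : ∀ x ∈ X, t x ∈ X) : t ∈ S :=
  h.inf_le (h.le_stab hX) (fun hle => hT fun _ hγ => (hle hγ).2) (mem_inf.2 ⟨⟨F.S_le_Aut ht, htX⟩, ht⟩)

omit [Finite A] in
/-- a `T`-invariant set fixed pointwise by a non-trivial element of `T` is central -/
theorem cen_of_inv {X : Set A} (hX : Inv F.S X)
    (hs : ∃ t ∈ F.S, t ≠ 1 ∧ ∀ x ∈ X, t x = x) : ∀ x ∈ X, x ∈ Subring.center A := by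
  let K : Subgroup F.S :=
    { carrier := {t | ∀ x ∈ X, (t : RingAut A) x = x}
      one_mem' := fun _ _ => rfl
      mul_mem' := fun {a b} ha hb x hx => by
        show (a : RingAut A) ((b : RingAut A) x) = x
        rw [hb x hx, ha x hx]
      inv_mem' := fun {a} ha x hx => by
        show (a : RingAut A)⁻¹ x = x
        conv_lhs => rw [← ha x hx]
        exact ra_inv_apply _ _ }
  have hn : K.Normal := ⟨fun t ht g x hx => by
    show (g : RingAut A) ((t : RingAut A) ((g : RingAut A)⁻¹ x)) = x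
    rw [ht _ (hX _ (inv_mem g.2) x hx), ra_apply_inv]⟩
  have := h.simple
  obtain ⟨t, ht, ht1, htX⟩ := hs
  rcases hn.eq_bot_or_eq_top with h1 | h1
  · have h2 : (⟨t, ht⟩ : F.S) ∈ K := htX
    rw [h1, mem_bot] at h2
    exact absurd (congrArg Subtype.val h2) ht1
  · intro x hx
    refine FR.cen_of_S h.span fun s hs => ?_
    have h2 : (⟨s, hs⟩ : F.S) ∈ K := by rw [h1]; exact mem_top _
    exact h2 x hx

/-- normalisers of invariant subgroups -/
theorem mem_of_normalizes {X : Subgroup (RingAut A)} (hXA : X ≤ F.Aut) (hX0 : X ≠ ⊥) (hXT : ¬ F.S ≤ X)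
    (hX : ∀ s ∈ S, ∀ x ∈ X, s * x * s⁻¹ ∈ X) {t : RingAut A} (ht : t ∈ F.S)
    (htX : ∀ x ∈ X, t * x * t⁻¹ ∈ X) : t ∈ S := by
  refine mem_subgroupOf.1 (h.max'.mem_of_normalizes h.as (X := X.subgroupOf F.Aut) ?_ ?_ ?_
    (t := ⟨t, F.S_le_Aut ht⟩) (mem_subgroupOf.2 ht) ?_)
  · intro hb
    exact hX0 (by rw [← map_subgroupOf_eq_of_le hXA, hb, Subgroup.map_bot])
  · intro hle
    exact hXT fun s hs => mem_subgroupOf.1 (hle (x := ⟨s, F.S_le_Aut hs⟩) (mem_subgroupOf.2 hs))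
  · exact fun s hs x hx => mem_subgroupOf.2 (hX s (mem_subgroupOf.1 hs) x (mem_subgroupOf.1 hx))
  · exact fun x hx => mem_subgroupOf.2 (htX x (mem_subgroupOf.1 hx))

theorem inf_ne_bot : S ⊓ F.S ≠ ⊥ := by
  intro hb
  apply h.max'.inf_ne_bot h.as h.solv'
  apply map_injective F.Aut.subtype_injective
  rw [map_inf _ _ _ F.Aut.subtype_injective, map_T, h.map_S, hb, Subgroup.map_bot]

theorem inf_not_comm : ¬ ∀ a ∈ S ⊓ F.S, ∀ b ∈ S ⊓ F.S, a * b = b * a := fun hab =>
  Red.inf_not_comm h.as.normal h.as.simple h.as.nonab h.as.cent h.solv' h.max' fun a ha b hb =>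
    Subtype.ext (hab a ⟨ha.1, ha.2⟩ b ⟨hb.1, hb.2⟩)

/-- a minimal invariant subgroup of `S ∩ T` -/
theorem exists_min : ∃ X : Subgroup (RingAut A), X ≤ S ⊓ F.S ∧ X ≠ ⊥ ∧ (∀ s ∈ S, ∀ x ∈ X, s * x * s⁻¹ ∈ X) ∧
      (∀ Z : Subgroup (RingAut A), Z ≤ X → (∀ s ∈ S, ∀ x ∈ Z, s * x * s⁻¹ ∈ Z) → Z = ⊥ ∨ Z = X) ∧
      (∀ x ∈ X, ∀ y ∈ X, x * y = y * x) ∧ (∃ r : ℕ, r.Prime ∧ (r : A) ≠ 0 ∧ ∀ x ∈ X, x ^ r = 1) ∧
      (∀ x (hx : x ∈ S), x ∈ X → (⟨x, hx⟩ : S) ∈ fittingSubgroup S) ∧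
      ∀ v : S, v ∈ fittingSubgroup S → ∀ x ∈ X, (v : RingAut A) * x = x * v := by
  obtain ⟨X, h1, h2, h3, h4, h5, ⟨r, hr, h6⟩, h7, h8⟩ :=
    SB.exists_min h.solv h.inf_ne_bot inf_le_left fun s hs _ hy => h.conj_inf hs hy
  refine ⟨X, h1, h2, h3, h4, h5, ⟨r, hr, fun h0 => h2 (h.npar r hr h0 X h1 ?_ h3), h6⟩, h7, h8⟩
  exact fun x => ⟨1, Subtype.ext (by rw [pow_one]; exact h6 x x.2)⟩

end Ctx

/-- a criterion for `Ctx.cent`: an automorphism centralising `T` fixes the isometries of order prime to the central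
units, e.g. the unipotent ones -/
theorem fix_of_cent {F : FR A} (hsp : F.Span) (hs : IsSimpleGroup F.S) (hn : ¬ IsMulCommutative F.S)
    {γ : RingAut A} (hγ : γ ∈ F.Aut) (hc : ∀ s ∈ F.S, γ * s = s * γ) {u : Aˣ} (hu : u ∈ F.Iso) :
    ∃ z : Aˣ, (z : A) ∈ Subring.center A ∧ um γ u = u * z := by
  have hp : F.S ≤ ⁅F.S, F.S⁆ := perfect_of_simple hs hn
  have key : ∀ δ ∈ Lin A, (∀ s ∈ F.S, δ * s = s * δ) → δ = 1 := by
    intro δ hl hδ
    refine eq_one_of_fix hsp hl ?_
    rintro _ ⟨u, hu, rfl⟩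
    exact fix_of_comm (W := ⁅F.Iso, F.Iso⁆) hp hl (fun w hw => hδ _ ⟨w, hw, rfl⟩) u hu
  have h1 : cj A u ∈ F.PI := mem_map_of_mem _ hu
  have h2 := key (γ * cj A u * γ⁻¹ * (cj A u)⁻¹) (F.PI_le_Lin (mul_mem (FR.conj_mem_PI hγ h1) (inv_mem h1))) (by
    intro s hs
    have h3 : ∀ s ∈ F.S, γ⁻¹ * s = s * γ⁻¹ := fun s hs => by
      rw [inv_mul_eq_iff_eq_mul, ← mul_assoc, hc s hs, mul_inv_cancel_right]
    have h4 := h3 _ (FR.conj_mem_S (inv_mem (FR.cj_mem_Aut hu)) hs)
    have h5 := hc s hs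
    calc γ * cj A u * γ⁻¹ * (cj A u)⁻¹ * s
        = γ * cj A u * (γ⁻¹ * ((cj A u)⁻¹ * s * (cj A u)⁻¹⁻¹)) * (cj A u)⁻¹ := by group
      _ = γ * s * (cj A u * γ⁻¹ * (cj A u)⁻¹) := by rw [h4]; group
      _ = s * (γ * cj A u * γ⁻¹ * (cj A u)⁻¹) := by rw [h5]; group)
  rw [mul_inv_eq_one, conj_cj] at h2
  exact cj_eq_iff.1 h2

/-- an automorphism centralising `T` and the centre is trivial -/
theorem eq_one_of_cent {F : FR A} (hsp : F.Span) (hs : IsSimpleGroup F.S) (hn : ¬ IsMulCommutative F.S)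
    {δ : RingAut A} (hl : δ ∈ Lin A) (hδ : ∀ s ∈ F.S, δ * s = s * δ) : δ = 1 := by
  refine eq_one_of_fix hsp hl ?_
  rintro _ ⟨u, hu, rfl⟩
  exact fix_of_comm (W := ⁅F.Iso, F.Iso⁆) (perfect_of_simple hs hn) hl (fun w hw => hδ _ ⟨w, hw, rfl⟩) u hu

end Cfsg.Agent.SB.Cl
end

-- part: SB/Cl/Cent
section
set_option linter.all false
open scoped Cfsg.Agent.FastGrp

/-!
# S5765, classical groups: the centraliser of `F.S` in `F.Aut` is trivial (helper68)
-/

set_option autoImplicit false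

namespace Cfsg.Agent.SB.Cl

open Subgroup Cfsg Cfsg.Agent.DS.Cl Cfsg.Agent.DS.Cl.Fwd Module

section ring

variable {A : Type} [Ring A] [StarRing A]

omit [StarRing A] in
theorem cen_mul_mul {a b : A} (hb : b ∈ Subring.center A) (x y : A) : a * x * (b * y) = a * b * (x * y) := by
  rw [mul_assoc, ← mul_assoc x, cen_comm hb x, mul_assoc, mul_assoc]

/-- `1 + c M - (c M)*` is an isometry for all central `c` -/
structure Nil (F : FR A) (M : A) : Prop where
  mm : M * M = 0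
  ms : M * star M = 0
  sm : star M * M = 0
  l1 : M * F.l * star M ∈ F.L
  l2 : star M * F.l * M ∈ F.L

namespace Nil

variable {F : FR A} {M : A}

theorem of_max (hF : F.L = Lmax A) (mm : M * M = 0) (ms : M * star M = 0) (sm : star M * M = 0) : Nil F M := by
  have hl : star F.l = 1 - F.l := by rw [← F.l_add]; abel
  refine ⟨mm, ms, sm, ?_, ?_⟩
  · rw [hF]
    show star (M * F.l * star M) = -(M * F.l * star M)
    rw [star_mul, star_mul, star_star, hl, sub_mul, mul_sub, one_mul, ms, zero_sub, mul_assoc]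
  · rw [hF]
    show star (star M * F.l * M) = -(star M * F.l * M)
    rw [star_mul, star_mul, star_star, hl, sub_mul, mul_sub, one_mul, sm, zero_sub, mul_assoc]

theorem ss (h : Nil F M) : star M * star M = 0 := by rw [← star_mul, h.mm, star_zero]

theorem smul (h : Nil F M) {c : A} (hc : c ∈ Subring.center A) : Nil F (c * M) := by
  have hs : star (c * M) = star c * star M := by rw [star_mul, cen_comm (star_cen hc)]
  refine ⟨?_, ?_, ?_, ?_, ?_⟩
  · rw [cen_mul_mul hc, h.mm, mul_zero]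
  · rw [hs, cen_mul_mul (star_cen hc), h.ms, mul_zero]
  · rw [hs, cen_mul_mul hc, h.sm, mul_zero]
  · have := F.conj_mem h.l1 c
    convert this using 1
    rw [star_mul]
    noncomm_ring
  · have := F.conj_mem h.l2 (star c)
    convert this using 1
    rw [hs, star_star, ← cen_comm hc M]
    noncomm_ring

theorem sq (h : Nil F M) : (M - star M) * (M - star M) = 0 := by
  rw [sub_mul, mul_sub, mul_sub, h.mm, h.ms, h.sm, h.ss]
  simp

/-- the unipotent isometry -/
def unit (h : Nil F M) : Aˣ where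
  val := 1 + (M - star M)
  inv := 1 - (M - star M)
  val_inv := by
    have := h.sq
    generalize M - star M = N at this
    rw [add_mul, mul_sub, mul_sub, this]; simp
  inv_val := by
    have := h.sq
    generalize M - star M = N at this
    rw [sub_mul, mul_add, mul_add, this]; simp

theorem unit_val (h : Nil F M) : (h.unit : A) = 1 + (M - star M) := rfl

theorem unit_mem (h : Nil F M) : h.unit ∈ F.Iso := by
  have hs : star (h.unit : A) = 1 - (M - star M) := by
    rw [unit_val, star_add, star_one, star_sub, star_star]; abel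
  have hl : star F.l = 1 - F.l := by rw [← F.l_add]; abel
  refine ⟨by rw [hs]; exact h.unit.val_inv, ?_⟩
  rw [hs, unit_val]
  have h1 := F.sub_star_mem ((M - star M) * F.l)
  have h2 := F.sub_star_mem M
  have h3 := F.sub_star_mem (M * F.l * M)
  have h4 := F.L.add_mem (F.L.add_mem (F.L.sub_mem (F.L.sub_mem h1 h2) h3) h.l1) h.l2
  convert h4 using 1
  have e : star M * (star M - F.l * star M) = - (star M * (F.l * star M)) := by rw [mul_sub, h.ss, zero_sub]
  simp only [star_mul, star_sub, star_star, hl, sub_mul, one_mul]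
  rw [e]
  noncomm_ring

end Nil

theorem SS_eq_zero (h : SS A) {c : A} (hc : c ∈ Subring.center A) (hn : IsNilpotent c) : c = 0 := by
  have h1 := h.nil_eq_bot (two_span_cen hc) fun x hx => by
    obtain ⟨b, rfl⟩ := Ideal.mem_span_singleton'.1 hx
    exact (show Commute b c from cen_comm hc b).isNilpotent_mul_left hn
  exact Ideal.span_singleton_eq_bot.1 h1

theorem Nil.fix {F : FR A} (hss : SS A) (hsp : F.Span) (hs : IsSimpleGroup F.S) (hn : ¬ IsMulCommutative F.S)
    {γ : RingAut A} (hγ : γ ∈ F.Aut) (hc : ∀ s ∈ F.S, γ * s = s * γ) {M : A} (h : Nil F M) :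
    γ (M - star M) = M - star M := by
  obtain ⟨z, hz, e⟩ := fix_of_cent hsp hs hn hγ hc h.unit_mem
  have h1 := congrArg Units.val e
  rw [um_val, Units.val_mul, h.unit_val, map_add, map_one] at h1
  have h2 := h.sq
  generalize M - star M = N at h1 h2
  have h3 : γ N * γ N = 0 := by rw [← map_mul, h2, map_zero]
  have hz' : (z : A) - 1 ∈ Subring.center A := sub_mem hz (one_mem _)
  have h4 : γ N = ((z : A) - 1) + z * N := by
    rw [← cen_comm hz N, ← add_left_cancel_iff (a := (1 : A)), h1]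
    noncomm_ring
  have h5 : IsNilpotent ((z : A) - 1) := by
    have h6 : (z : A) - 1 = γ N - z * N := by rw [h4]; abel
    have h7 : Commute (γ N) (z * N) := by
      rw [h4]
      exact Commute.add_left (cen_comm hz' _).symm (Commute.refl _)
    rw [h6]
    refine h7.isNilpotent_sub ⟨2, by rw [pow_two, h3]⟩ ⟨2, ?_⟩
    rw [pow_two, cen_mul_mul hz, h2, mul_zero]
  rw [h4, SS_eq_zero hss hz' h5, zero_add, sub_eq_zero.1 (SS_eq_zero hss hz' h5), one_mul]

/-- **criterion for `Ctx.cent`** -/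
theorem cent_of_nil {F : FR A} (hss : SS A) (hsp : F.Span) (hs : IsSimpleGroup F.S) (hn : ¬ IsMulCommutative F.S)
    {M M' : A} (hM : Nil F M) (hM' : Nil F M') (h1 : M' * M = 0) (h2 : M' * star M = 0) (h3 : star M' * M = 0)
    (h4 : ∀ z ∈ Subring.center A, z * z * (M * M') = 0 → star z * star z * (M * M') = 0 → z = 0) :
    ∀ γ ∈ F.Aut, (∀ s ∈ F.S, γ * s = s * γ) → γ = 1 := by
  intro γ hγ hc
  refine eq_one_of_cent hsp hs hn ?_ hc
  have hst : ∀ a, γ (star a) = star (γ a) := hγ.1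
  have key : ∀ c ∈ Subring.center A, (γ c - c) * (γ c - c) * (M * M') = 0 := by
    intro c hc'
    have hsc := star_cen hc'
    have hgc := star_cen (map_cen γ hc')
    have k1 : ∀ X : A, Nil F X → γ ((c - star c) * X) = (c - star (γ c)) * X + (star (γ c) - star c) * star X := by
      intro X hX
      have a1 := hX.fix hss hsp hs hn hγ hc
      have a2 := (hX.smul hc').fix hss hsp hs hn hγ hc
      rw [star_mul, cen_comm hsc] at a2
      have a3 : (c - star c) * X = (c * X - star c * star X) - star c * (X - star X) := by noncomm_ring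
      rw [a3, map_sub, a2, map_mul, a1, hst]
      noncomm_ring
    have hd : c - star c ∈ Subring.center A := sub_mem hc' hsc
    have ha : c - star (γ c) ∈ Subring.center A := sub_mem hc' hgc
    have hb : star (γ c) - star c ∈ Subring.center A := sub_mem hgc hsc
    have k2 : γ ((c - star c) * M') * γ ((c - star c) * M) = 0 := by
      rw [← map_mul, cen_mul_mul hd, h1, mul_zero, map_zero]
    rw [k1 M hM, k1 M' hM', add_mul, mul_add, mul_add, cen_mul_mul ha, cen_mul_mul ha, cen_mul_mul hb, cen_mul_mul hb,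
      h1, h2, h3, mul_zero, mul_zero, mul_zero, zero_add, zero_add, zero_add, ← star_mul, ← star_sub, ← star_mul,
      ← star_mul, star_eq_zero] at k2
    rw [← cen_comm (mul_mem (sub_mem (map_cen γ hc') hc') (sub_mem (map_cen γ hc') hc'))]
    exact k2
  intro c hc'
  refine sub_eq_zero.1 (h4 _ (sub_mem (map_cen γ hc') hc') (key c hc') ?_)
  have := key _ (star_cen hc')
  rwa [hst, ← star_sub] at this

end ring

/-- linear groups -/
theorem cent_LR {K : Type} [Field K] {n : ℕ} (hn3 : 3 ≤ n) (F : FR (LR (Fin n) K)) (hsp : F.Span)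
    (hs : IsSimpleGroup F.S) (hn : ¬ IsMulCommutative F.S) : ∀ γ ∈ F.Aut, (∀ s ∈ F.S, γ * s = s * γ) → γ = 1 := by
  have : Nonempty (Fin n) := ⟨⟨0, by omega⟩⟩
  let i : Fin n := ⟨0, by omega⟩
  let j : Fin n := ⟨1, by omega⟩
  let k : Fin n := ⟨2, by omega⟩
  have hF : F.L = Lmax _ := by
    refine F.L_eq (c := LR.mk 1 0) (Subring.mem_center_iff.2 fun g => ?_) LR.half
    obtain ⟨a, b, rfl⟩ := LR.exists_mk g
    rw [LR.mk_mul, LR.mk_mul, mul_one, one_mul, mul_zero, zero_mul]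
  have hnil : ∀ a b : Fin n, b ≠ a → Nil F (LR.mk (Matrix.single a b 1) 0) := fun a b hab =>
    Nil.of_max hF (by rw [LR.mk_mul, Matrix.single_mul_single_of_ne _ _ _ _ hab, mul_zero, LR.zero_eq])
      (by rw [LR.star_mk, LR.mk_mul, Matrix.transpose_zero, mul_zero, zero_mul, LR.zero_eq])
      (by rw [LR.star_mk, LR.mk_mul, Matrix.transpose_zero, mul_zero, zero_mul, LR.zero_eq])
  have hscal : ∀ z ∈ Subring.center (LR (Fin n) K), z * z * LR.mk (Matrix.single i k 1) 0 = 0 → z.1 = 0 := by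
    intro z hz h0
    have h1 : z.1 ∈ Set.center (Matrix (Fin n) (Fin n) K) :=
      Semigroup.mem_center_iff.2 fun g => congrArg Prod.fst (Subring.mem_center_iff.1 hz (LR.mk g 0))
    rw [Matrix.center_eq_range] at h1
    obtain ⟨c, hc⟩ := h1
    have h2 : z.1 * z.1 * Matrix.single i k 1 = 0 := congrArg Prod.fst h0
    rw [← hc, ← map_mul] at h2
    have h3 := congrFun (congrFun h2 i) k
    simp only [Matrix.scalar_apply, Matrix.diagonal_mul, Matrix.single_apply_same, mul_one, Matrix.zero_apply,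
      mul_self_eq_zero] at h3
    rw [← hc, h3, map_zero]
  refine cent_of_nil LR.ss hsp hs hn (hnil i j (by simp [i, j])) (hnil j k (by simp [j, k])) ?_ ?_ ?_ ?_
  · rw [LR.mk_mul, Matrix.single_mul_single_of_ne _ _ _ _ (by simp [i, k]), mul_zero, LR.zero_eq]
  · rw [LR.star_mk, LR.mk_mul, Matrix.transpose_zero, mul_zero, zero_mul, LR.zero_eq]
  · rw [LR.star_mk, LR.mk_mul, Matrix.transpose_zero, mul_zero, zero_mul, LR.zero_eq]
  · intro z hz h1 h2
    rw [LR.mk_mul, Matrix.single_mul_single_same, mul_one, mul_zero] at h1 h2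
    have a1 := hscal z hz h1
    have a2 : z.2.transpose = 0 := hscal _ (star_cen hz) h2
    exact Prod.ext a1 (Matrix.transpose_eq_zero.1 a2)

section hf

variable {K V : Type} [Field K] [Finite K] [AddCommGroup V] [Module K V] [Finite V] (h : HF K V)

theorem ap_star_ro (u v y : V) : h.ap (star (h.eb (h.ro u v))) y = h.τ (h.b u y) • v :=
  h.ext_right fun x => by rw [h.b_star, h.ap_eb, h.ro_apply, h.smul_left, h.smul_right, h.τ_τ, mul_comm]

theorem nil_ro (F : FR h.EB) {u v : V} (huu : h.b u u = 0) (hvv : h.b v v = 0) (huv : h.b u v = 0)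
    (hl : F.L = Lmax _ ∨ (h.b u (h.ap F.l u) = 0 ∧ h.b v (h.ap F.l v) = 0)) : Nil F (h.eb (h.ro u v)) := by
  have mm : h.eb (h.ro u v) * h.eb (h.ro u v) = 0 := h.ap_ext fun x => by
    rw [h.ap_mul, h.ap_eb, h.ro_apply, h.ro_apply, h.smul_left, huv, mul_zero, zero_smul]; rfl
  have ms : h.eb (h.ro u v) * star (h.eb (h.ro u v)) = 0 := h.ap_ext fun x => by
    rw [h.ap_mul, ap_star_ro, h.ap_eb, h.ro_apply, h.smul_left, hvv, mul_zero, zero_smul]; rfl
  have sm : star (h.eb (h.ro u v)) * h.eb (h.ro u v) = 0 := h.ap_ext fun x => by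
    rw [h.ap_mul, ap_star_ro, h.ap_eb, h.ro_apply, h.smul_right, huu, mul_zero, map_zero, zero_smul]; rfl
  rcases hl with hl | ⟨hu, hv⟩
  · exact Nil.of_max hl mm ms sm
  refine ⟨mm, ms, sm, ?_, ?_⟩
  · have h1 : h.b (h.ap F.l v) v = 0 := by rw [h.swap, hv, map_zero, mul_zero]
    have : h.eb (h.ro u v) * F.l * star (h.eb (h.ro u v)) = 0 := h.ap_ext fun x => by
      rw [h.ap_mul, h.ap_mul, ap_star_ro, h.ap_eb, h.ro_apply, map_smul, h.smul_left, h1, mul_zero, zero_smul]; rfl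
    rw [this]; exact F.L.zero_mem
  · have : star (h.eb (h.ro u v)) * F.l * h.eb (h.ro u v) = 0 := h.ap_ext fun x => by
      rw [h.ap_mul, h.ap_mul, ap_star_ro, h.ap_eb, h.ro_apply, map_smul, h.smul_right, hu, mul_zero, map_zero,
        zero_smul]; rfl
    rw [this]; exact F.L.zero_mem

/-- unitary, symplectic, orthogonal groups: `e₁, e₂, f₂` isotropic (singular), `e₁ ≠ 0` orthogonal to `e₂, f₂`, and
`b f₂ e₂ ≠ 0` -/
theorem cent_HF (F : FR h.EB) (hsp : F.Span) (hs : IsSimpleGroup F.S) (hn : ¬ IsMulCommutative F.S) {e₁ e₂ f₂ : V}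
    (h0 : e₁ ≠ 0) (h11 : h.b e₁ e₁ = 0) (h22 : h.b e₂ e₂ = 0) (hff : h.b f₂ f₂ = 0) (h12 : h.b e₁ e₂ = 0)
    (h1f : h.b e₁ f₂ = 0) (hf2 : h.b f₂ e₂ ≠ 0)
    (hl : F.L = Lmax _ ∨ (h.b e₁ (h.ap F.l e₁) = 0 ∧ h.b e₂ (h.ap F.l e₂) = 0 ∧ h.b f₂ (h.ap F.l f₂) = 0)) :
    ∀ γ ∈ F.Aut, (∀ s ∈ F.S, γ * s = s * γ) → γ = 1 := by
  have : Nontrivial V := ⟨e₁, 0, h0⟩
  have hf1 : h.b f₂ e₁ = 0 := by rw [h.swap, h1f, map_zero, mul_zero]
  have h21 : h.b e₂ e₁ = 0 := by rw [h.swap, h12, map_zero, mul_zero]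
  refine cent_of_nil h.ss hsp hs hn (nil_ro h F h11 h22 h12 (hl.imp id fun a => ⟨a.1, a.2.1⟩))
    (nil_ro h F hff h11 hf1 (hl.imp id fun a => ⟨a.2.2, a.1⟩)) ?_ ?_ ?_ ?_
  · exact h.ap_ext fun x => by
      rw [h.ap_mul, h.ap_eb, h.ap_eb, h.ro_apply, h.ro_apply, h.smul_left, h11, mul_zero, zero_smul]; rfl
  · exact h.ap_ext fun x => by
      rw [h.ap_mul, ap_star_ro, h.ap_eb, h.ro_apply, h.smul_left, h21, mul_zero, zero_smul]; rfl
  · exact h.ap_ext fun x => by
      rw [h.ap_mul, ap_star_ro, h.ap_eb, h.ro_apply, h.smul_right, hf1, mul_zero, map_zero, zero_smul]; rfl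
  · intro z hz h1 _
    obtain ⟨x, hx⟩ := h.exists_ne h0
    -- `z` is a scalar
    have h2 : ∀ y, h.b x e₁ • h.ap z y = h.b (h.ap z x) e₁ • y := fun y => by
      have h3 := congrArg (fun a => h.ap a x) (Subring.mem_center_iff.1 hz (h.eb (h.ro y e₁)))
      simp only [h.ap_mul, h.ap_eb, h.ro_apply, map_smul] at h3
      exact h3.symm
    have h4 : ∀ y, h.ap z y = ((h.b x e₁)⁻¹ * h.b (h.ap z x) e₁) • y := fun y => by
      rw [mul_smul, ← h2, smul_smul, inv_mul_cancel₀ hx, one_smul]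
    generalize (h.b x e₁)⁻¹ * h.b (h.ap z x) e₁ = c at h4
    have h5 : h.ap (z * z * (h.eb (h.ro e₁ e₂) * h.eb (h.ro f₂ e₁))) x = 0 := by rw [h1]; rfl
    rw [h.ap_mul, h.ap_mul, h.ap_mul, h4, h4, h.ap_eb, h.ap_eb, h.ro_apply, h.ro_apply, h.smul_left, smul_smul,
      smul_smul, smul_eq_zero_iff_left h0, mul_eq_zero_iff_right (mul_ne_zero hx hf2), mul_self_eq_zero] at h5
    exact h.ap_ext fun y => by rw [h4, h5, zero_smul]; rfl

end hf

end Cfsg.Agent.SB.Cl
end

-- part: SB/C2/SolvV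
section
set_option linter.all false
open scoped Cfsg.Agent.FastGrp

/-!
# The solvable classical groups, vector form (helper56)
-/

set_option autoImplicit false

namespace Cfsg.Agent.SB.C2

open Cfsg Cfsg.Agent.DS.Cl.Vec Matrix Module
open scoped MatrixGroups

theorem ns_of_perfect {X : Type*} [Group X] [Nontrivial X] (h : commutator X = ⊤) : ¬ Group.IsSolvable X :=
  fun _ => (Group.IsSolvable.commutator_lt_top_of_nontrivial X).ne h

theorem solv_of_equiv {X Y : Type*} [Group X] [Group Y] (e : X ≃* Y) (h : Group.IsSolvable Y) : Group.IsSolvable X :=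
  Group.isSolvable_of_isSolvable_injective (f := e.toMonoidHom) e.injective

theorem solv_of_center {X : Type*} [Group X] (h : Group.IsSolvable (X ⧸ Subgroup.center X)) : Group.IsSolvable X := by
  have : Group.IsSolvable (Subgroup.center X) :=
    Group.isSolvable_of_comm fun a b => Subtype.ext (Subgroup.mem_center_iff.1 b.2 a)
  exact Group.isSolvable_of_ker_le_range (Subgroup.center X).subtype (QuotientGroup.mk' (Subgroup.center X)) (by simp)

variable {K : Type*} [Field K] [Fintype K]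

omit [Fintype K] in
theorem nontrivial_sl {n : ℕ} (hn : 2 ≤ n) : Nontrivial SL(n, K) := by
  have h01 : (⟨0, by omega⟩ : Fin n) ≠ ⟨1, by omega⟩ := by simp
  refine ⟨⟨⟨Matrix.transvection ⟨0, by omega⟩ ⟨1, by omega⟩ 1, Matrix.det_transvection_of_ne _ _ h01 _⟩, 1, fun h => ?_⟩⟩
  have h1 := congrFun (congrFun (congrArg Subtype.val h) ⟨0, by omega⟩) ⟨1, by omega⟩
  simp [Matrix.transvection, h01] at h1

theorem ns_sl2 (h : 4 ≤ Fintype.card K) : ¬ Group.IsSolvable SL(2, K) := by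
  obtain ⟨a, ha, ha'⟩ := exists_sq_ne h
  have := nontrivial_sl (K := K) le_rfl
  exact ns_of_perfect (SL2.commutator_eq_top ha ha')

theorem ns_psl2 (h : 4 ≤ Fintype.card K) : ¬ Group.IsSolvable PSL(2, K) := fun h1 => ns_sl2 h (solv_of_center h1)

theorem solv_gl {n : ℕ} (h : Group.IsSolvable (GL (Fin n) K)) : n ≤ 1 ∨ (n = 2 ∧ Fintype.card K ≤ 3) := by
  have h1 : Group.IsSolvable SL(n, K) := Group.isSolvable_of_isSolvable_injective
    (f := (SpecialLinearGroup.toGL : SL(n, K) →* GL (Fin n) K)) SpecialLinearGroup.toGL_injective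
  by_cases h3 : 3 ≤ n
  · have := nontrivial_sl (K := K) (n := n) (by omega)
    exact absurd h1 (ns_of_perfect (Cfsg.Agent.S0248.result n h3))
  by_cases h2 : n = 2
  · subst h2
    by_cases h4 : 4 ≤ Fintype.card K
    · exact absurd h1 (ns_sl2 h4)
    · exact Or.inr ⟨rfl, by omega⟩
  · exact Or.inl (by omega)

theorem solv_sp {m : ℕ} (h : Group.IsSolvable (symplecticGroup (Fin m) K)) :
    m = 0 ∨ (m = 1 ∧ Fintype.card K ≤ 3) := by
  by_cases h0 : m = 0
  · exact Or.inl h0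
  have : Nontrivial (symplecticGroup (Fin m) K) := by
    refine ⟨⟨⟨_, SymplecticGroup.J_mem (Fin m) K⟩, 1, fun h => ?_⟩⟩
    have h1 := congrFun (congrFun (congrArg Subtype.val h) (.inl ⟨0, by omega⟩)) (.inl ⟨0, by omega⟩)
    simp [Matrix.J] at h1
  by_cases h1 : 3 ≤ m ∨ (m = 2 ∧ 3 ≤ Fintype.card K) ∨ 4 ≤ Fintype.card K
  · exact absurd h (ns_of_perfect (LieClassical.SympPerfect.commutator_eq_top h1))
  by_cases h2 : m = 2
  · subst h2
    have := card_cases K
    obtain ⟨e⟩ := Cfsg.Agent.S0247.result (F := K) (by omega)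
    exact absurd (solv_of_equiv e.symm h) (Equiv.Perm.not_isSolvable _ (by simp; norm_num))
  · exact Or.inr (by omega)

theorem solv_gu {q n : ℕ} (hK : Fintype.card K = q ^ 2) (h : Group.IsSolvable (GU n K q)) :
    n ≤ 1 ∨ (n = 2 ∧ (q = 2 ∨ q = 3)) ∨ (n = 3 ∧ q = 2) := by
  let f : SU n K q →* GU n K q :=
    ((SpecialLinearGroup.toGL : SL(n, K) →* GL (Fin n) K).comp (SU n K q).subtype).codRestrict (GU n K q) fun x => x.2
  have h1 : Group.IsSolvable (SU n K q) := Group.isSolvable_of_isSolvable_injective (f := f) fun a b e =>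
    Subtype.ext (SpecialLinearGroup.toGL_injective (congrArg Subtype.val e))
  by_cases h32 : n = 3 ∧ q = 2
  · exact Or.inr (Or.inr h32)
  by_cases h3 : 3 ≤ n
  · have := Cfsg.Agent.S0283.result hK n h3 h32
    have : Nontrivial (SU n K q) := (QuotientGroup.mk'_surjective (Subgroup.center (SU n K q))).nontrivial
    exact absurd h1 (ns_of_perfect (LieClassical.HermPerfect.commutator_SU_eq_top hK h3 h32))
  by_cases h2 : n = 2
  · subst h2
    obtain ⟨p, k, hp, -, hq, hk⟩ := LieClassical.HermBasic.exists_prime_pow hK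
    obtain ⟨L, _, _, hL⟩ := exists_field p k hp hk.ne'
    obtain ⟨e⟩ := Cfsg.Agent.S0281.result hK (hL.trans hq.symm)
    rcases card_cases L with h4 | h4 | h4
    · exact Or.inr (Or.inl ⟨rfl, Or.inl (by omega)⟩)
    · exact Or.inr (Or.inl ⟨rfl, Or.inr (by omega)⟩)
    · exact absurd (solv_of_equiv e.symm h1) (ns_sl2 h4)
  · exact Or.inl (by omega)

variable {V : Type*} [AddCommGroup V] [Module K V] [FiniteDimensional K V]

/-- linear groups -/
theorem solv_lin (h : Group.IsSolvable (V ≃ₗ[K] V)) : finrank K V ≤ 1 ∨ (finrank K V = 2 ∧ Fintype.card K ≤ 3) :=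
  solv_gl (solv_of_equiv (LieClassical.OrthFourCommon.glEquiv (Module.finBasis K V).equivFun.symm) h)

/-- symplectic groups -/
theorem solv_alt (b : LinearMap.BilinForm K V) (hb : b.IsAlt) (hs : b.SeparatingLeft)
    (h : Group.IsSolvable (Isom K fun v w => b v w)) : finrank K V = 0 ∨ (finrank K V = 2 ∧ Fintype.card K ≤ 3) := by
  obtain ⟨m, l, c, -, -, -, h4⟩ := Cfsg.Agent.S0752.result b hb
  have hl : l = 0 := by
    by_contra hl
    exact c.ne_zero _ (hs _ (h4 ⟨0, Nat.pos_of_ne_zero hl⟩))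
  subst hl
  have hm : finrank K V = 2 * m := by
    rw [finrank_eq_card_basis c]
    simp [two_mul]
  obtain ⟨e, he⟩ := ClassicalGeometry.SympIso.exists_linearEquiv_sympForm b hb hs hm
  obtain ⟨φ⟩ := exists_equiv e (sympForm m K) (fun v w => b v w) he
  have h1 := solv_of_equiv φ h
  let f : symplecticGroup (Fin m) K →* preserving (Units.coeHom (Matrix (Fin m ⊕ Fin m) (Fin m ⊕ Fin m) K)) (sympForm m K) :=
    (symplecticGroup (Fin m) K).subtype.toHomUnits.codRestrict _ fun x =>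
      ClassicalGeometry.SympBasic.mem_symplecticGroup_iff.1 x.2
  have h2 : Group.IsSolvable (symplecticGroup (Fin m) K) := Group.isSolvable_of_isSolvable_injective (f := f)
    fun a b e => Subtype.ext (congrArg Units.val (congrArg Subtype.val e))
  rcases solv_sp h2 with h3 | ⟨h3, h5⟩
  · exact Or.inl (by omega)
  · exact Or.inr ⟨by omega, h5⟩

/-- unitary groups -/
theorem solv_herm {σ : K →+* K} (hσ : σ ≠ RingHom.id K) (hσ2 : ∀ a, σ (σ a) = a)
    (b : V →ₛₗ[σ] V →ₗ[K] K) (hb : b.IsSymm) (hs : b.SeparatingLeft)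
    (h : Group.IsSolvable (Isom K fun v w => b v w)) : finrank K V ≤ 1 ∨
      (finrank K V = 2 ∧ (Fintype.card K = 4 ∨ Fintype.card K = 9)) ∨ (finrank K V = 3 ∧ Fintype.card K = 4) := by
  obtain ⟨q, -, hq, hσq⟩ := H324.FC.exists_q (RingEquiv.ofRingHom σ σ (RingHom.ext hσ2) (RingHom.ext hσ2)) hσ2
    (ClassicalGeometry.InvolutiveNorm.exists_sigma_ne hσ)
  have hσq' : ∀ x, σ x = x ^ q := hσq
  rw [Nat.card_eq_fintype_card] at hq
  obtain ⟨c, hc⟩ := ClassicalGeometry.HermOrthonormal.exists_orthonormal_basis hσ hσ2 b hb hs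
  obtain ⟨φ⟩ := exists_equiv c.equivFun.symm (hermForm _ K q) (fun v w => b w v) fun u v => by
    simp only [Module.Basis.equivFun_symm_apply, map_sum, LinearMap.sum_apply, LinearMap.map_smulₛₗ, map_smul,
      LinearMap.smul_apply, hc, smul_eq_mul, mul_ite, mul_one, mul_zero, Finset.sum_ite_eq', Finset.mem_univ, if_true,
      hσq', hermForm]
  have h1 : (Isom K fun v w => b w v) = Isom K fun v w => b v w := by
    ext g
    exact ⟨fun h v w => h w v, fun h v w => h w v⟩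
  have ψ : GU (finrank K V) K q ≃* Isom K fun v w => b v w := φ.trans (MulEquiv.subgroupCongr h1)
  rcases solv_gu hq (solv_of_equiv ψ h) with h2 | ⟨h2, rfl | rfl⟩ | ⟨h2, rfl⟩
  · exact Or.inl h2
  · exact Or.inr (Or.inl ⟨h2, Or.inl hq⟩)
  · exact Or.inr (Or.inl ⟨h2, Or.inr hq⟩)
  · exact Or.inr (Or.inr ⟨h2, hq⟩)

omit [Fintype K] in
theorem solv_pomega {ι : Type} [Fintype ι] [DecidableEq ι] {Q : (ι → K) → K} {X Y : Type*} [Group X]
    [Group Y] (φ : isometryGroup K Q ≃* X) (ψ : POmega K Q ≃* Y) (h : Group.IsSolvable X) : Group.IsSolvable Y := by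
  have := solv_of_equiv φ h
  exact solv_of_equiv ψ.symm inferInstance

open LieClassical.OrthCore in
/-- orthogonal groups -/
theorem solv_O (Q : QuadraticForm K V) (hQ : Nondeg Q) (h : Group.IsSolvable (O Q)) :
    finrank K V ≤ 2 ∨ (finrank K V = 3 ∧ Fintype.card K = 3) ∨ (finrank K V = 4 ∧ Fintype.card K ≤ 3 ∧
      ∃ g : V ≃ₗ[K] (Fin 2 ⊕ Fin 2 → K), ∀ v, Q v = quadFormPlus 2 K (g v)) := by
  have hQ' : (QuadraticMap.polarBilin Q).Nondegenerate :=
    ⟨fun x hx => hQ x hx, fun x hx => hQ x fun y => by rw [QuadraticMap.polar_comm]; exact hx y⟩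
  have han : ∀ ζ : K, (∀ t : K, t ^ 2 + t + ζ ≠ 0) → ∀ z₁ z₂ : K, z₁ ^ 2 + 1 * z₁ * z₂ + ζ * z₂ ^ 2 = 0 →
      z₁ = 0 ∧ z₂ = 0 := by
    intro ζ hζ z₁ z₂ h
    by_cases h2 : z₂ = 0
    · rw [h2] at h
      exact ⟨by simpa using h, h2⟩
    · refine absurd ?_ (hζ (z₁ / z₂))
      field_simp
      linear_combination h
  by_cases h5 : 5 ≤ finrank K V
  · have hG := LieClassical.OrthFinite.good_of_finite hQ h5
    obtain ⟨g, hg, hg1⟩ := LieClassical.OrthSimple.good_E_ne_bot hG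
    have h1 : Group.IsSolvable (E Q) :=
      Group.isSolvable_of_isSolvable_injective (f := Subgroup.inclusion E_le_O) (Subgroup.inclusion_injective _)
    have : Nontrivial (E Q) := ⟨⟨⟨g, hg⟩, 1, fun h => hg1 (congrArg Subtype.val h)⟩⟩
    refine absurd h1 (ns_of_perfect ?_)
    rw [eq_top_iff, ← Subgroup.map_le_map_iff_of_injective (Subgroup.subtype_injective (E Q)),
      commutator_def, Subgroup.map_commutator, ← MonoidHom.range_eq_map, Subgroup.range_subtype, hG.E_perfect]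
  by_cases h1 : finrank K V ≤ 2
  · exact Or.inl h1
  have h2 : finrank K V = 2 * 1 + 1 ∨ finrank K V = 2 * 2 := by omega
  rcases h2 with h2 | h2
  · obtain ⟨c, h3, h4, h5, h6, -⟩ := Cfsg.Agent.S2618.result h2 Q hQ'
    have hc : ∀ v, v = c.repr v (.inl ()) • c (.inl ()) + (c.repr v (.inr (.inl 0)) • c (.inr (.inl 0)) +
        c.repr v (.inr (.inr 0)) • c (.inr (.inr 0))) := by
      intro v
      conv_lhs => rw [← c.sum_repr v]
      simp only [Fintype.sum_sum_type, Fintype.sum_unique]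
      rfl
    have h7 := h6 0 0
    rw [if_pos rfl] at h7
    have h8 : (2 : K) ≠ 0 := by
      intro h9
      refine c.ne_zero (.inl ()) (hQ _ fun y => ?_)
      rw [hc y]
      simp only [QuadraticMap.polar_add_right, QuadraticMap.polar_smul_right, (h4 0).1, (h4 0).2, polar_self', h9,
        zero_mul, smul_zero, add_zero]
    have hodd : Odd (Fintype.card K) :=
      Nat.odd_iff.2 (FiniteField.odd_card_of_char_ne_two fun h => h8 (by
        have := (ringChar.spec K 2).2 (by rw [h])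
        exact_mod_cast this))
    let c' := c.unitsSMul (Sum.elim (fun _ => 1) (Sum.elim (fun _ => Units.mk0 _ h3) fun _ => 1))
    obtain ⟨φ⟩ := O_equiv c'.equivFun (quadFormOdd 1 K) Q h3 fun v => by
      conv_lhs => rw [hc v]
      simp only [Q_add, QuadraticMap.map_smul, QuadraticMap.polar_add_right, QuadraticMap.polar_smul_right,
        QuadraticMap.polar_smul_left, (h4 0).1, (h4 0).2, (h5 0).1, (h5 0).2, h7, smul_eq_mul, quadFormOdd, c',
        Module.Basis.equivFun_apply, Module.Basis.repr_unitsSMul, Fin.sum_univ_one, Sum.elim_inl, Sum.elim_inr,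
        inv_one, one_smul, Units.smul_def, Units.val_inv_eq_inv_val, Units.val_mk0]
      field_simp
      ring
    obtain ⟨ψ⟩ := Cfsg.Agent.S0298.result hodd
    rcases card_cases K with h9 | h9 | h9
    · rw [h9] at hodd
      exact absurd hodd (by decide)
    · exact Or.inr (Or.inl ⟨h2, h9⟩)
    · exact absurd (solv_pomega φ ψ h) (ns_psl2 h9)
  · rcases H174.exists_std (by norm_num) h2 Q hQ' with ⟨g, hg⟩ | ⟨ζ, g, hζ, hg⟩
    · obtain ⟨φ⟩ := O_equiv g _ Q one_ne_zero fun v => by rw [one_mul, hg]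
      refine Or.inr (Or.inr ⟨h2, ?_, g, hg⟩)
      by_contra h3
      obtain ⟨ψ⟩ := Cfsg.Agent.S0299.result (F := K) (by omega)
      have := solv_pomega φ ψ h
      exact ns_psl2 (K := K) (by omega)
        (Group.isSolvable_of_surjective (f := MonoidHom.fst PSL(2, K) PSL(2, K)) Prod.fst_surjective)
    · obtain ⟨φ⟩ := O_equiv g _ Q one_ne_zero fun v => by rw [one_mul, hg]
      obtain ⟨p, hp⟩ := CharP.exists K
      obtain ⟨k, hpp, hk⟩ := FiniteField.card K p
      obtain ⟨L, _, _, hL⟩ := exists_field p (k * 2) hpp (mul_ne_zero k.ne_zero two_ne_zero)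
      rw [pow_mul, ← hk] at hL
      obtain ⟨ψ⟩ := Cfsg.Agent.S0300.result rfl hL 1 ζ (han ζ hζ)
      have h4 : 4 ≤ Fintype.card L := by
        have : 1 < Fintype.card K := Fintype.one_lt_card
        rw [hL]
        nlinarith
      exact absurd (solv_pomega φ ψ h) (ns_psl2 h4)

end Cfsg.Agent.SB.C2
end
end
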